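import Groth.Agent.AbSquare57.PicLaw
import Groth.Agent.S1490
import Groth.Prelude.Def_AlgGrp
import Mathlib.CategoryTheory.Monoidal.Cartesian.Over
import Mathlib.CategoryTheory.Monoidal.Cartesian.Grp

/-!
The theorem of the cube and of the square on an abelian variety, as equations in the Picard group.
-/

set_option autoImplicit false
set_option maxSynthPendingDepth 6
set_option linter.style.haveILetI false
set_option backward.isDefEq.respectTransparency.types false

noncomputable section

universe u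

open CategoryTheory CategoryTheory.Limits MonoidalCategory CartesianMonoidalCategory MonObj GrpObj AlgebraicGeometry

namespace Groth.Agent.AbSquare57

variable {K : Type u} [Field K] {A : Over (Spec (CommRingCat.of K))} [GrpObj A]

/-- the defect of the cube -/
def cubeDefect (c : Pic A.left) {V : Over (Spec (CommRingCat.of K))} (f g h : V ⟶ A) : Pic V.left :=
  pb (f * g * h).left c * pb f.left c * pb g.left c * pb h.left c *
    (pb (f * g).left c * pb (f * h).left c * pb (g * h).left c)⁻¹

theorem pb_cubeDefect (c : Pic A.left) {V W : Over (Spec (CommRingCat.of K))} (u : W ⟶ V) (f g h : V ⟶ A) :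
    pb u.left (cubeDefect c f g h) = cubeDefect c (u ≫ f) (u ≫ g) (u ≫ h) := by
  simp only [cubeDefect, map_mul, map_inv, ← pb_comp, ← Over.comp_left, ← MonObj.comp_mul]

theorem pb_const (c : Pic A.left) {V : Over (Spec (CommRingCat.of K))} (a : 𝟙_ _ ⟶ A) :
    pb (toUnit V ≫ a).left c = 1 := by
  rw [Over.comp_left, pb_comp]
  obtain ⟨L, hL, rfl⟩ := PicGrp.exists_eq_cls c
  haveI : Subsingleton (𝟙_ (Over (Spec (CommRingCat.of K)))).left :=
    inferInstanceAs (Subsingleton (PrimeSpectrum K))
  obtain ⟨i⟩ := nonempty_iso_structureModule_of_subsingleton (IsLocalRing.closedPoint K)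
    (PicLoc.isInvertible_pullback a.left hL)
  rw [pb_cls a.left, (PicGrp.cls_eq_one_iff _).2 ⟨i⟩, map_one]

theorem pb_one (c : Pic A.left) {V : Over (Spec (CommRingCat.of K))} : pb (1 : V ⟶ A).left c = 1 := by
  rw [Hom.one_def]
  exact pb_const c _

theorem cubeDefect_one_left (c : Pic A.left) {V : Over (Spec (CommRingCat.of K))} (g h : V ⟶ A) :
    cubeDefect c 1 g h = 1 := by
  simp only [cubeDefect, _root_.one_mul, pb_one, _root_.mul_one]
  rw [mul_inv_eq_one]
  ac_rfl

theorem cubeDefect_one_mid (c : Pic A.left) {V : Over (Spec (CommRingCat.of K))} (f h : V ⟶ A) :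
    cubeDefect c f 1 h = 1 := by
  simp only [cubeDefect, _root_.one_mul, pb_one, _root_.mul_one]
  rw [mul_inv_eq_one]; ac_rfl

theorem cubeDefect_one_right (c : Pic A.left) {V : Over (Spec (CommRingCat.of K))} (f g : V ⟶ A) :
    cubeDefect c f g 1 = 1 := by
  simp only [cubeDefect, _root_.one_mul, pb_one, _root_.mul_one]
  rw [mul_inv_eq_one]

/-- the residue field at the unit point is the base field -/
theorem fromSpecResidueField_unit :
    A.left.fromSpecResidueField (η[A].left (IsLocalRing.closedPoint K)) =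
      A.left.fromSpecResidueField (η[A].left (IsLocalRing.closedPoint K)) ≫ A.hom ≫ η[A].left := by
  set e : Spec (CommRingCat.of K) ⟶ A.left := η[A].left with he
  set z := e (IsLocalRing.closedPoint K)
  obtain ⟨⟨z', φ⟩, hφ⟩ : ∃ p, (Scheme.SpecToEquivOfField K A.left).symm p = e := ⟨_, Equiv.symm_apply_apply _ _⟩
  change Spec.map φ ≫ A.left.fromSpecResidueField z' = e at hφ
  have hz : z' = z := by
    rw [show z = e (IsLocalRing.closedPoint K) from rfl, ← hφ, Scheme.Hom.comp_apply,
      Scheme.fromSpecResidueField_apply]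
  subst hz
  let r := Spec.preimage (A.left.fromSpecResidueField z ≫ A.hom)
  have hr : r ≫ φ = 𝟙 _ := by
    apply Spec.map_injective
    rw [Spec.map_comp, Spec.map_preimage, ← Category.assoc, hφ, Spec.map_id]
    exact Over.w η[A]
  have : IsIso φ := by
    rw [ConcreteCategory.isIso_iff_bijective]
    exact ⟨φ.hom.injective, fun y => ⟨r y, congr($hr y)⟩⟩
  have hφr : φ ≫ r = 𝟙 _ := by
    rw [← cancel_mono φ, Category.assoc, hr, Category.id_comp, Category.comp_id]
  rw [← Category.assoc, ← Spec.map_preimage (A.left.fromSpecResidueField z ≫ A.hom), ← hφ, ← Category.assoc,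
    ← Spec.map_comp, hφr, Spec.map_id, Category.id_comp]

variable [IsProper A.hom] [GeometricallyIntegral A.hom]

theorem cubeDefect_univ (c : Pic A.left) :
    cubeDefect c (fst (A ⊗ A) A ≫ fst A A) (fst (A ⊗ A) A ≫ snd A A) (snd (A ⊗ A) A) = 1 := by
  haveI : IsIntegral A.left := GeometricallyIntegral.isIntegral_of_subsingleton A.hom
  haveI : ConnectedSpace A.left := inferInstance
  haveI : LocallyOfFinitePresentation A.hom := inferInstance
  haveI : Flat A.hom := inferInstance
  obtain ⟨L, hL, hc⟩ := PicGrp.exists_eq_cls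
    (cubeDefect c (fst (A ⊗ A) A ≫ fst A A) (fst (A ⊗ A) A ≫ snd A A) (snd (A ⊗ A) A))
  have hone : η[A].left ≫ A.hom = 𝟙 _ := Over.w η[A]
  -- a morphism into the triple product with one coordinate the unit
  have key : ∀ {W : Scheme.{u}} (m : W ⟶ ((A ⊗ A) ⊗ A).left),
      (m ≫ (fst (A ⊗ A) A ≫ fst A A).left = (m ≫ ((A ⊗ A) ⊗ A).hom) ≫ η[A].left ∨
       m ≫ (fst (A ⊗ A) A ≫ snd A A).left = (m ≫ ((A ⊗ A) ⊗ A).hom) ≫ η[A].left ∨
       m ≫ (snd (A ⊗ A) A).left = (m ≫ ((A ⊗ A) ⊗ A).hom) ≫ η[A].left) →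
      Nonempty ((Scheme.Modules.pullback m).obj L ≅ Coh.structureModule W) := by
    intro W m hm
    rw [← pb_cls_eq_one_iff m hL, ← hc]
    let u : Over.mk (m ≫ ((A ⊗ A) ⊗ A).hom) ⟶ (A ⊗ A) ⊗ A := Over.homMk m rfl
    show pb u.left _ = 1
    rw [pb_cubeDefect]
    rcases hm with h | h | h
    · rw [show u ≫ fst (A ⊗ A) A ≫ fst A A = 1 by rw [Hom.one_def]; exact Over.OverMorphism.ext h]
      exact cubeDefect_one_left c _ _
    · rw [show u ≫ fst (A ⊗ A) A ≫ snd A A = 1 by rw [Hom.one_def]; exact Over.OverMorphism.ext h]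
      exact cubeDefect_one_mid c _ _
    · rw [show u ≫ snd (A ⊗ A) A = 1 by rw [Hom.one_def]; exact Over.OverMorphism.ext h]
      exact cubeDefect_one_right c _ _
  rw [hc, PicGrp.cls_eq_one_iff]
  refine Groth.Agent.S1490.result A.hom A.hom A.hom η[A].left hone η[A].left hone L hL (key _ (Or.inl ?_))
    (key _ (Or.inr (Or.inl ?_))) ⟨η[A].left (IsLocalRing.closedPoint K), key _ (Or.inr (Or.inr ?_))⟩
  · show _ ≫ pullback.fst _ _ ≫ pullback.fst _ _ = (_ ≫ pullback.fst _ _ ≫ pullback.fst _ _ ≫ A.hom) ≫ _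
    simp only [pullback.lift_fst_assoc, Category.assoc, pullback.lift_fst, limit.lift_π_assoc]
    rw [reassoc_of% hone]
  · show _ ≫ pullback.fst _ _ ≫ pullback.snd _ _ = (_ ≫ pullback.fst _ _ ≫ pullback.fst _ _ ≫ A.hom) ≫ _
    simp only [pullback.lift_fst_assoc, Category.assoc, pullback.lift_snd]
    exact (congrArg _ (Category.id_comp _)).symm
  · show (pullback.snd (pullback.fst A.hom A.hom ≫ A.hom) A.hom).fiberι _ ≫ pullback.snd _ _ =
      (_ ≫ pullback.fst _ _ ≫ pullback.fst _ _ ≫ A.hom) ≫ _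
    rw [pullback.condition (f := pullback.fst A.hom A.hom ≫ A.hom) (g := A.hom)]
    simp only [← Category.assoc]
    rw [Scheme.Hom.fiber_fac]
    simp only [Category.assoc]
    exact congrArg _ (fromSpecResidueField_unit (A := A))

/-- The theorem of the cube. -/
theorem cubeDefect_eq_one (c : Pic A.left) {V : Over (Spec (CommRingCat.of K))} (f g h : V ⟶ A) :
    cubeDefect c f g h = 1 := by
  have := pb_cubeDefect c (lift (lift f g) h) (fst (A ⊗ A) A ≫ fst A A) (fst (A ⊗ A) A ≫ snd A A) (snd (A ⊗ A) A)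
  rw [cubeDefect_univ, map_one] at this
  simpa using this.symm

theorem cube (c : Pic A.left) {V : Over (Spec (CommRingCat.of K))} (f g h : V ⟶ A) :
    pb (f * g * h).left c * pb f.left c * pb g.left c * pb h.left c =
      pb (f * g).left c * pb (f * h).left c * pb (g * h).left c :=
  mul_inv_eq_one.1 (cubeDefect_eq_one c f g h)

/-- The theorem of the square. -/
theorem square (c : Pic A.left) (a b : 𝟙_ (Over (Spec (CommRingCat.of K))) ⟶ A) :
    pb (𝟙 A * (toUnit A ≫ (a * b))).left c * c =
      pb (𝟙 A * (toUnit A ≫ a)).left c * pb (𝟙 A * (toUnit A ≫ b)).left c := by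
  have h := cube c (𝟙 A) (toUnit A ≫ a) (toUnit A ≫ b)
  rw [← MonObj.comp_mul, pb_const, pb_const, pb_const, _root_.mul_one, _root_.mul_one, _root_.mul_one,
    Over.id_left, pb_id, _root_.mul_assoc (𝟙 A)] at h
  rwa [← MonObj.comp_mul] at h

end Groth.Agent.AbSquare57
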