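import Groth.Prelude.Def_PicGrp
import Groth.Agent.An92.Ample.Inverse
import Groth.Agent.TwTens96.Basic
import Groth.Agent.EGA73.Invertible

/-!
The group of invertible classes exists; pullback of classes is a homomorphism.
-/

set_option autoImplicit false
set_option linter.style.haveILetI false
set_option backward.isDefEq.respectTransparency.types false

noncomputable section

universe u

open CategoryTheory AlgebraicGeometry

namespace Groth.Agent.AbSquare57

abbrev Pic (X : Scheme.{u}) := PicLoc.PicSet X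

variable {X Y Z : Scheme.{u}}

def mulSet (a b : Pic X) : Pic X :=
  ⟨PicGrp.mulCl a.1 b.1, by
    obtain ⟨L, hL, rfl⟩ := PicGrp.exists_eq_cls a
    obtain ⟨M, hM, rfl⟩ := PicGrp.exists_eq_cls b
    exact ⟨_, rfl, EGA73.isInvertible_tensorMod hL hM⟩⟩

theorem exists_inv (a : Pic X) : ∃ b : Pic X, mulSet b a = PicLoc.unitPicSet X := by
  obtain ⟨L, hL, rfl⟩ := PicGrp.exists_eq_cls a
  obtain ⟨N, hN, h⟩ := An92.InvMod.exists_inverse hL
  exact ⟨PicGrp.cls N hN, Subtype.ext ((PicGrp.cl_eq_cl_iff _ _).2 h)⟩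

/-- The Picard group. -/
instance picLaw (X : Scheme.{u}) : PicGrp.Law X where
  mul := mulSet
  one := PicLoc.unitPicSet X
  inv a := (exists_inv a).choose
  mul_assoc a b c := Subtype.ext (by
    obtain ⟨L, hL, rfl⟩ := PicGrp.exists_eq_cls a
    obtain ⟨M, hM, rfl⟩ := PicGrp.exists_eq_cls b
    obtain ⟨N, hN, rfl⟩ := PicGrp.exists_eq_cls c
    exact (PicGrp.cl_eq_cl_iff _ _).2 ⟨EGA73.tensAssoc' L M N⟩)
  one_mul a := Subtype.ext (by
    obtain ⟨L, hL, rfl⟩ := PicGrp.exists_eq_cls a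
    exact (PicGrp.cl_eq_cl_iff _ _).2 ⟨EGA73.tensUnitLeft L⟩)
  mul_one a := Subtype.ext (by
    obtain ⟨L, hL, rfl⟩ := PicGrp.exists_eq_cls a
    exact (PicGrp.cl_eq_cl_iff _ _).2 ⟨EGA73.tensUnitRight L⟩)
  inv_mul_cancel a := (exists_inv a).choose_spec
  mul_comm a b := Subtype.ext (by
    obtain ⟨L, hL, rfl⟩ := PicGrp.exists_eq_cls a
    obtain ⟨M, hM, rfl⟩ := PicGrp.exists_eq_cls b
    exact (PicGrp.cl_eq_cl_iff _ _).2 ⟨EGA73.tensComm L M⟩)
  mul_val _ _ := rfl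
  one_eq := rfl

theorem pullMul (g : X ⟶ Y) : PicGrp.PullMul g := by
  rintro c d ⟨L, rfl, hL⟩ ⟨M, rfl, hM⟩
  exact (PicGrp.cl_eq_cl_iff _ _).2 ⟨TwTens96.pullTensIso g L M⟩

/-- Pullback of classes. -/
def pb (g : X ⟶ Y) : Pic Y →* Pic X := PicGrp.pullHom g (pullMul g)

theorem pb_cls (g : X ⟶ Y) {L : Y.Modules} (hL : PicF.IsInvertible L) :
    pb g (PicGrp.cls L hL) = PicGrp.cls ((Scheme.Modules.pullback g).obj L) (PicLoc.isInvertible_pullback g hL) := rfl

theorem pb_comp (f : X ⟶ Y) (g : Y ⟶ Z) (c : Pic Z) : pb (f ≫ g) c = pb f (pb g c) :=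
  Subtype.ext (PicLoc.pullCl_comp f g c.1)

theorem pb_id (c : Pic X) : pb (𝟙 X) c = c := Subtype.ext (PicLoc.pullCl_id c.1)

theorem pb_cls_eq_one_iff (g : X ⟶ Y) {L : Y.Modules} (hL : PicF.IsInvertible L) :
    pb g (PicGrp.cls L hL) = 1 ↔ Nonempty ((Scheme.Modules.pullback g).obj L ≅ Coh.structureModule X) := by
  rw [pb_cls, PicGrp.cls_eq_one_iff]

theorem nonempty_iso_structureModule_of_subsingleton [Subsingleton X] (x : X) {L : X.Modules}
    (hL : PicF.IsInvertible L) : Nonempty (L ≅ Coh.structureModule X) := by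
  obtain ⟨U, hx, ⟨i⟩⟩ := hL x
  have hU : U = ⊤ := TopologicalSpace.Opens.ext (Set.eq_univ_of_forall fun y => Subsingleton.elim x y ▸ hx)
  have : IsIso U.ι := by rw [hU]; exact Scheme.topIso X |>.isIso_hom
  refine ⟨((Scheme.Modules.pullbackId X).app L).symm ≪≫ ?_⟩
  refine (Scheme.Modules.pullbackCongr (IsIso.inv_hom_id U.ι).symm).app L ≪≫
    ((Scheme.Modules.pullbackComp (inv U.ι) U.ι).app L).symm ≪≫ ?_ ≪≫ PicLoc.pullbackStructureIso (inv U.ι)
  exact (Scheme.Modules.pullback (inv U.ι)).mapIso (((Scheme.Modules.restrictFunctorIsoPullback U.ι).app L).symm ≪≫ i)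

end Groth.Agent.AbSquare57
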